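import Cfsg.Agent.SpO90.Stab

/-!
An image meeting the member in a non-degenerate subspace `A`: the shears and their conjugates on the
orthogonal `B` of `A`, in the frame of the graph.
-/

set_option autoImplicit false
set_option linter.unusedSectionVars false

namespace CfsgLib.SpO90

open Module

variable {F : Type*} [Field F] [Finite F] {W : Type*} [AddCommGroup W] [Module F W] [FiniteDimensional F W]

/-- The nilpotent part of the conjugate shear. -/
def nil (k : (W × W) ≃ₗ[F] (W × W)) : (W × W) →ₗ[F] (W × W) :=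
  k.toLinearMap ∘ₗ LinearMap.inl F W W ∘ₗ LinearMap.snd F W W ∘ₗ (k⁻¹ : (W × W) ≃ₗ[F] (W × W)).toLinearMap

/-- The map `(z, y) ↦ (z, y + s S z)`. -/
def lo (S : W →ₗ[F] W) (s : F) : (W × W) →ₗ[F] (W × W) :=
  LinearMap.id + (LinearMap.inr F W W ∘ₗ (s • S) ∘ₗ LinearMap.fst F W W)

/-- The map `(z, y) ↦ (z + t y, y)`. -/
def up (t : F) : (W × W) →ₗ[F] (W × W) :=
  LinearMap.id + (LinearMap.inl F W W ∘ₗ (t • (LinearMap.id : W →ₗ[F] W)) ∘ₗ LinearMap.snd F W W)

@[simp] lemma lo_apply (S : W →ₗ[F] W) (s : F) (p : W × W) : lo S s p = (p.1, p.2 + s • S p.1) := by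
  ext <;> simp [lo]

@[simp] lemma up_apply (t : F) (p : W × W) : up t p = (p.1 + t • p.2, p.2) := by
  ext <;> simp [up]

variable (β : LinearMap.BilinForm F W)

/-- An element of `M` acting on the plane of `A` as `(1 e; 0 1)` and on that of its orthogonal as `T` in the
frame of the graph of `φ`. -/
def El (M : Subgroup ((W × W) ≃ₗ[F] (W × W))) (A : Submodule F W) (φ : W →ₗ[F] W) (T : (W × W) →ₗ[F] (W × W))
    (e : F) : Prop :=
  (∀ z ∈ perp β A, ∀ y ∈ perp β A, (T (z, y)).1 ∈ perp β A ∧ (T (z, y)).2 ∈ perp β A) ∧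
  ∃ g ∈ M, (∀ a ∈ A, g (a, 0) = (a, 0)) ∧ (∀ a ∈ A, g (0, a) = (e • a, a)) ∧
    ∀ z ∈ perp β A, ∀ y ∈ perp β A, g (z + φ y, y) = ((T (z, y)).1 + φ (T (z, y)).2, (T (z, y)).2)

variable {β} {M : Subgroup ((W × W) ≃ₗ[F] (W × W))} {k : (W × W) ≃ₗ[F] (W × W)} {A : Submodule F W}
variable {φ S : W →ₗ[F] W}

lemma nil_apply (p : W × W) : nil k p = k ((k⁻¹ p).2, 0) := rfl

lemma nil_mem (p : W × W) : nil k p ∈ img k := app_mem_img _

lemma nil_of_mem {p : W × W} (hp : p ∈ img k) : nil k p = 0 := by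
  rw [nil_apply, mem_img.1 hp, Prod.mk_zero_zero, map_zero]

lemma El.comp {T T' : (W × W) →ₗ[F] (W × W)} {e e' : F} (h : El β M A φ T e) (h' : El β M A φ T' e') :
    El β M A φ (T ∘ₗ T') (e + e') := by
  obtain ⟨hT, g, hg, hga, hga', hgB⟩ := h
  obtain ⟨hT', g', hg', hga2, hga2', hgB'⟩ := h'
  refine ⟨fun z hz y hy => hT _ (hT' z hz y hy).1 _ (hT' z hz y hy).2, g * g', M.mul_mem hg hg',
    fun a ha => ?_, fun a ha => ?_, fun z hz y hy => ?_⟩
  · show g (g' (a, 0)) = _
    rw [hga2 a ha, hga a ha]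
  · show g (g' (0, a)) = _
    rw [hga2' a ha, show ((e' • a, a) : W × W) = e' • (a, 0) + (0, a) by simp, map_add, map_smul, hga a ha,
      hga' a ha]
    ext <;> simp [add_smul, add_comm]
  · show g (g' _) = _
    rw [hgB' z hz y hy, hgB _ (hT' z hz y hy).1 _ (hT' z hz y hy).2]
    rfl

lemma el_up (hM : Hyp β M) (t : F) : El β M A φ (up t) t := by
  obtain ⟨g, hg, hgp⟩ := hM.exists_shear t
  refine ⟨fun z hz y hy => ?_, g, hg, fun a _ => by simp [hgp], fun a _ => by simp [hgp], fun z _ y _ => ?_⟩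
  · simp only [up_apply]
    exact ⟨Submodule.add_mem _ hz (Submodule.smul_mem _ _ hy), hy⟩
  · simp only [hgp, up_apply, Prod.mk.injEq, and_true]
    abel

lemma exists_el_lo (hM : Hyp β M) (hsc : OnlyScalar M) (hk : k ∈ M) (hne : img k ≠ base)
    (hnd : ND β (proj k)) (hsz : 3 ≤ finrank F (proj k) ∨ 5 ≤ Nat.card F)
    (hφ : ∀ y ∈ perp β (proj k), φ y ∈ perp β (proj k) ∧ (φ y, y) ∈ img k ∧
      ∀ p ∈ perp β (proj k), (p, y) ∈ img k → p = φ y) :
    ∃ (S : W →ₗ[F] W) (δ : F),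
      (∀ z ∈ perp β (proj k), S z ∈ perp β (proj k)) ∧
      (∀ z ∈ perp β (proj k), ∀ z' ∈ perp β (proj k), β (S z) z' = β z (S z')) ∧
      (∃ z ∈ perp β (proj k), S z ≠ 0) ∧
      ∀ s, El β M (proj k) φ (lo S s) (s * δ) := by
  have hs := hM.sym
  have hsnd : ∀ p ∈ img k, p.2 ∈ perp β (proj k) := fun p hp => by
    rw [← snd_img hM hk]; exact ⟨p, hp, rfl⟩
  have helem : ∀ s : F, ∃ g ∈ M, ∀ p, g p = p + s • nil k p := by
    intro s
    obtain ⟨t, ht, htp⟩ := hM.exists_shear s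
    refine ⟨k * t * k⁻¹, M.mul_mem (M.mul_mem hk ht) (M.inv_mem hk), fun p => ?_⟩
    show k (t (k⁻¹ p)) = _
    rw [htp, show ((k⁻¹ p).1 + s • (k⁻¹ p).2, (k⁻¹ p).2) = k⁻¹ p + s • (((k⁻¹ p).2, 0) : W × W) by
      ext <;> simp, map_add, map_smul, app_inv, nil_apply]
  have hskew : ∀ p q, om β (nil k p) q + om β p (nil k q) = 0 := by
    intro p q
    obtain ⟨g, hg, hgp⟩ := helem 1
    have h1 := hM.iso g hg p q
    have h2 := hM.om_img hk (nil_mem p) (nil_mem q)
    simp only [hgp, one_smul, om, Prod.fst_add, Prod.snd_add, map_add, LinearMap.add_apply] at h1 h2 ⊢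
    linear_combination h1 - h2
  obtain ⟨t, ht, htp⟩ := hM.exists_shear 1
  have hD : ∀ v ∈ proj k, β v v ≠ 0 → (nil k (0, v)).2 = 0 ∧ ∃ c : F, (nil k (0, v)).1 = c • v := by
    intro v hv hvv
    obtain ⟨r, hr, hrp⟩ := hM.exists_refl v
    have hfix : img (r * k) = img k := by
      refine Submodule.eq_of_le_of_finrank_le ?_ (by rw [finrank_img, finrank_img])
      rw [img_mul]
      rintro _ ⟨p, hp, rfl⟩
      rw [LinearEquiv.coe_coe, hrp, Sym.refl_perp (x := p.2) (by
        have := hsnd p hp v hv; exact this), refl_apply,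
        show ((p.1 - (2 / β v v * β v p.1) • v, p.2) : W × W)
          = p - (2 / β v v * β v p.1) • ((v, 0) : W × W) by ext <;> simp]
      exact Submodule.sub_mem _ hp (Submodule.smul_mem _ _ (mem_proj.1 hv))
    have hr' : r (0, v) = -((0, v) : W × W) := by simp [hrp, hs.refl_self hvv]
    have hc := refl_commute hM hsc hk hvv hr hrp hfix htp (0, v)
    have hn : ∀ p, k (t (k⁻¹ p)) = p + nil k p := fun p => by
      rw [htp, one_smul, show ((k⁻¹ p).1 + (k⁻¹ p).2, (k⁻¹ p).2) = k⁻¹ p + (((k⁻¹ p).2, 0) : W × W) by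
        ext <;> simp, map_add, app_inv, nil_apply]
    rw [hn, hn, map_add, hr', map_neg, add_right_inj] at hc
    have key : ∀ x : W, refl β v x = -x → x = (β v x / β v v) • v := fun x hx => by
      rw [refl_apply, sub_eq_iff_eq_add] at hx
      have h2 : (2 : F) • x = (2 : F) • ((β v x / β v v) • v) := by
        rw [smul_smul, show (2 : F) * (β v x / β v v) = 2 / β v v * β v x by ring, two_smul]
        nth_rewrite 1 [hx]
        abel
      exact smul_right_injective W hM.two_ne h2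
    rw [hrp] at hc
    refine ⟨?_, _, key _ (congrArg Prod.fst hc)⟩
    have h1 := key _ (congrArg Prod.snd hc)
    have h2 : (nil k (0, v)).2 ∈ proj k ⊓ perp β (proj k) :=
      ⟨by rw [h1]; exact Submodule.smul_mem _ _ hv, hsnd _ (nil_mem _)⟩
    rwa [hs.inf_perp hnd, Submodule.mem_bot] at h2
  obtain ⟨δ, hδ⟩ := hs.scalar_of_eigen hnd hsz (LinearMap.fst F W W ∘ₗ nil k ∘ₗ LinearMap.inr F W W)
    fun v hv hvv => (hD v hv hvv).2
  obtain ⟨δ₂, hδ₂⟩ := hs.scalar_of_eigen hnd hsz (LinearMap.snd F W W ∘ₗ nil k ∘ₗ LinearMap.inr F W W)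
    fun v hv hvv => ⟨0, by simp [(hD v hv hvv).1]⟩
  have hne0 : proj k ≠ ⊥ → δ₂ = 0 := fun h => by
    obtain ⟨v, hv, hvv⟩ := hs.exists_aniso hnd h
    have h1 := hδ₂ v hv
    simp only [LinearMap.comp_apply, LinearMap.inr_apply, LinearMap.snd_apply, (hD v hv hvv).1] at h1
    exact (smul_eq_zero.1 h1.symm).resolve_right fun h0 => hvv (by simp [h0])
  have hA : ∀ a ∈ proj k, nil k (0, a) = (δ • a, 0) := fun a ha => by
    refine Prod.ext (hδ a ha) ?_
    rcases eq_or_ne (proj k) ⊥ with h0 | h0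
    · rw [h0, Submodule.mem_bot] at ha
      subst ha
      rw [Prod.mk_zero_zero, map_zero]
      rfl
    · have h1 := hδ₂ a ha
      simp only [LinearMap.comp_apply, LinearMap.inr_apply, LinearMap.snd_apply] at h1
      rw [h1, hne0 h0, zero_smul]
  let S : W →ₗ[F] W := LinearMap.snd F W W ∘ₗ nil k ∘ₗ LinearMap.inl F W W
  have hSz : ∀ z ∈ perp β (proj k), S z ∈ perp β (proj k) := fun z _ => hsnd _ (nil_mem _)
  have hN : ∀ z ∈ perp β (proj k), nil k (z, 0) = (φ (S z), S z) := by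
    intro z hz
    refine Prod.ext ((hφ _ (hSz z hz)).2.2 _ (fun a ha => ?_) ?_) rfl
    · have h1 := hskew (z, 0) (0, a)
      rw [hA a ha] at h1
      simp [om] at h1
      show β a _ = 0
      rw [hM.symm]; exact h1
    · exact nil_mem (z, 0)
  refine ⟨S, δ, hSz, fun z hz z' hz' => ?_, ?_, fun s => ?_⟩
  · have h1 := hskew (z, 0) (z', 0)
    simp [om] at h1
    show β (nil k (z, 0)).2 z' = β z (nil k (z', 0)).2
    linear_combination -h1
  · by_contra! hall
    refine hne (Submodule.eq_of_le_of_finrank_le ?_ (by rw [finrank_img, finrank_base])).symm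
    intro p hp
    obtain ⟨x, y⟩ := p
    obtain rfl : y = 0 := mem_base.1 hp
    have h1 : x ∈ proj k ⊔ perp β (proj k) := by rw [hs.sup_perp hnd]; trivial
    obtain ⟨a, ha, z, hz, rfl⟩ := Submodule.mem_sup.1 h1
    have h2 : nil k (a + z, 0) = 0 := by
      rw [show ((a + z, 0) : W × W) = (a, 0) + (z, 0) by simp, map_add, nil_of_mem (mem_proj.1 ha), hN z hz,
        hall z hz]
      simp
    rw [nil_apply] at h2
    exact mem_img.2 (Prod.ext_iff.1 (k.injective (h2.trans (map_zero k).symm))).1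
  · obtain ⟨g, hg, hgp⟩ := helem s
    refine ⟨fun z hz y hy => ?_, g, hg, fun a ha => ?_, fun a ha => ?_, fun z hz y hy => ?_⟩
    · simp only [lo_apply]
      exact ⟨hz, Submodule.add_mem _ hy (Submodule.smul_mem _ _ (hSz z hz))⟩
    · rw [hgp, nil_of_mem (mem_proj.1 ha), smul_zero, add_zero]
    · rw [hgp, hA a ha]
      ext <;> simp [smul_smul]
    · rw [hgp, show ((z + φ y, y) : W × W) = (z, 0) + (φ y, y) by simp, map_add, nil_of_mem (hφ y hy).2.1,
        add_zero, hN z hz, lo_apply]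
      ext <;> simp [add_assoc]

/-- An element fixing the plane of `A` up to a shear and mapping `B × 0` into the member acts there by
an isometry. -/
lemma key_iso (hM : Hyp β M) (hsc : OnlyScalar M) {g : (W × W) ≃ₗ[F] (W × W)} (hg : g ∈ M) (hnd : ND β A)
    (hA : A ≠ ⊥) {e : F} (ha1 : ∀ a ∈ A, g (a, 0) = (a, 0)) (ha2 : ∀ a ∈ A, g (0, a) = (e • a, a))
    (hB : ∀ z ∈ perp β A, (g (z, 0)).2 = 0) :
    (∀ z z', β (g (z, 0)).1 (g (z', 0)).1 = β z z') ∧
      ((∀ z ∈ perp β A, g (z, 0) = (z, 0)) → ∀ y ∈ perp β A, g (0, y) = (e • y, y)) := by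
  have hs := hM.sym
  have hb : img g = base := img_eq_base_iff.2 fun x => by
    have h1 : x ∈ A ⊔ perp β A := by rw [hs.sup_perp hnd]; trivial
    obtain ⟨a, ha, z, hz, rfl⟩ := Submodule.mem_sup.1 h1
    rw [show ((a + z, 0) : W × W) = (a, 0) + (z, 0) by simp, map_add, ha1 a ha, Prod.snd_add, hB z hz,
      zero_add]
  obtain ⟨a₀, b₀, o, ha₀, ho, hp⟩ := exists_borel hM hsc hg hb
  obtain ⟨v, hv, hvv⟩ := hs.exists_aniso hnd hA
  have hv0 : v ≠ 0 := fun h0 => hvv (by simp [h0])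
  have e1 : a₀ • o v = v := by
    have := congrArg Prod.fst (ha1 v hv)
    simpa [hp] using this
  have e2 : a₀⁻¹ • o v = v := by
    have := congrArg Prod.snd (ha2 v hv)
    simpa [hp] using this
  have hsq : a₀ * a₀ = 1 := by
    have h1 : o v = a₀⁻¹ • v := by rw [eq_inv_smul_iff₀ ha₀, e1]
    rw [h1, smul_smul] at e2
    have h2 : (a₀⁻¹ * a₀⁻¹ - 1) • v = 0 := by rw [sub_smul, e2, one_smul, sub_self]
    have h3 := sub_eq_zero.1 ((smul_eq_zero.1 h2).resolve_right hv0)
    rw [← mul_inv, inv_eq_one] at h3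
    exact h3
  refine ⟨fun z z' => ?_, fun hid y hy => ?_⟩
  · simp only [hp, map_zero, smul_zero, add_zero, map_smul, LinearMap.smul_apply, smul_eq_mul, ho _ _,
      ← mul_assoc, hsq, one_mul]
  · have hinv : a₀⁻¹ = a₀ := inv_eq_of_mul_eq_one_right hsq
    have h1 : a₀ • o y = y := by
      have := congrArg Prod.fst (hid y hy)
      simpa [hp] using this
    have h2 : o y = a₀ • y := by
      conv_rhs => rw [← h1, smul_smul, hsq, one_smul]
    have h3 : b₀ * a₀ = e := by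
      have := congrArg Prod.fst (ha2 v hv)
      simp only [hp, map_zero, smul_zero, zero_add] at this
      have h4 : o v = a₀ • v := by rw [← hinv, eq_inv_smul_iff₀ ha₀, e1]
      rw [h4, smul_smul] at this
      have h5 : (b₀ * a₀ - e) • v = 0 := by rw [sub_smul, this, sub_self]
      exact sub_eq_zero.1 ((smul_eq_zero.1 h5).resolve_right hv0)
    simp [hp, h2, smul_smul, h3, hinv, hsq]

/-- The same for an element in the frame of the graph. -/
lemma El.key (hM : Hyp β M) (hsc : OnlyScalar M) (hnd : ND β A) (hA : A ≠ ⊥)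
    (hφ : ∀ y ∈ perp β A, φ y ∈ perp β A) {T : (W × W) →ₗ[F] (W × W)} {e : F} (h : El β M A φ T e)
    (hT : ∀ z ∈ perp β A, (T (z, 0)).2 = 0) :
    (∀ z ∈ perp β A, ∀ z' ∈ perp β A, β (T (z, 0)).1 (T (z', 0)).1 = β z z') ∧
      ((∀ z ∈ perp β A, T (z, 0) = (z, 0)) → ∀ y ∈ perp β A, T (0, y) = (e • y, y)) := by
  obtain ⟨-, g, hg, ha1, ha2, hgB⟩ := h
  have hz : ∀ z ∈ perp β A, g (z, 0) = ((T (z, 0)).1, 0) := fun z hz => by
    have h1 := hgB z hz 0 (zero_mem _)
    rwa [map_zero, add_zero, hT z hz, map_zero, add_zero] at h1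
  obtain ⟨h1, h2⟩ := key_iso hM hsc hg hnd hA ha1 ha2 (fun z hz' => by rw [hz z hz'])
  refine ⟨fun z hz1 z' hz2 => ?_, fun hid y hy => ?_⟩
  · have := h1 z z'
    rwa [hz z hz1, hz z' hz2] at this
  · have hid' : ∀ z ∈ perp β A, g (z, 0) = (z, 0) := fun z hz' => by rw [hz z hz', hid z hz']
    have h3 := h2 hid' y hy
    have h4 := hgB 0 (zero_mem _) y hy
    rw [zero_add, show ((φ y, y) : W × W) = (φ y, 0) + (0, y) by simp, map_add, h3, hid' _ (hφ y hy)] at h4
    obtain ⟨h5, h6⟩ := Prod.ext_iff.1 h4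
    simp only [Prod.fst_add, Prod.snd_add, zero_add] at h5 h6
    rw [← h6] at h5
    refine Prod.ext ?_ h6.symm
    show (T (0, y)).1 = e • y
    linear_combination (norm := module) -h5

/-- The relation from a word in the shears. -/
lemma word (hM : Hyp β M) (hsc : OnlyScalar M) (hnd : ND β A) (hA : A ≠ ⊥)
    (hφ : ∀ y ∈ perp β A, φ y ∈ perp β A) {δ : F}
    (hEl : ∀ s, El β M A φ (lo S s) (s * δ)) (hSz : ∀ z ∈ perp β A, S z ∈ perp β A)
    (hSa : ∀ z ∈ perp β A, ∀ z' ∈ perp β A, β (S z) z' = β z (S z'))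
    {p r : F} (hS2 : ∀ z ∈ perp β A, S (S z) = p • S z + r • z) {σ τ : F} (hσ : σ ≠ 0) (hτ : τ ≠ 0)
    (hne : σ ≠ τ) (hΔσ : 1 + σ * p - σ ^ 2 * r ≠ 0) (hΔτ : 1 + τ * p - τ ^ 2 * r ≠ 0) :
    ∀ z ∈ perp β A, (2 : F) • S z + (σ + τ) • S (S z) = 0 := by
  set Δ := 1 + σ * p - σ ^ 2 * r with hΔ
  set b := (τ - σ) / Δ with hb
  set a := 1 - σ * b * r with ha
  have e0 : b * Δ = τ - σ := div_mul_cancel₀ _ hΔσ
  have hs1 : a - b / τ ≠ 0 := by
    have h1 : (a - b / τ) * (τ * Δ) = σ * (1 + τ * p - τ ^ 2 * r) := by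
      have : (a - b / τ) * (τ * Δ) = a * τ * Δ - b * Δ := by field_simp
      rw [this, e0, ha]
      linear_combination (-(σ * r * τ)) * e0 + τ * hΔ
    intro h0
    rw [h0, zero_mul] at h1
    exact mul_ne_zero hσ hΔτ h1.symm
  set s₁ := a - b / τ with hs1'
  set s₂ := b / τ with hs2'
  set t₁ := τ / s₁ with ht1'
  have e1 : s₁ + s₂ = a := by rw [hs1', hs2']; ring
  have e2 : s₂ * (t₁ * s₁) = b := by
    rw [ht1', div_mul_cancel₀ _ hs1, hs2', div_mul_cancel₀ _ hτ]
  have e3 : t₁ * s₁ = τ := by rw [ht1', div_mul_cancel₀ _ hs1]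
  set W5 := lo S (-1) ∘ₗ up (-σ) ∘ₗ lo S s₂ ∘ₗ up t₁ ∘ₗ lo S s₁
  have hW : El β M A φ W5 ((-1) * δ + ((-σ) + (s₂ * δ + (t₁ + s₁ * δ)))) :=
    (hEl _).comp ((el_up hM _).comp ((hEl _).comp ((el_up hM _).comp (hEl _))))
  -- the main identity
  have hax : ∀ z ∈ perp β A, (a • z + b • S z) + σ • S (a • z + b • S z) = z + τ • S z := by
    intro z hz
    simp only [map_add, map_smul, hS2 z hz]
    match_scalars
    · rw [ha]; ring
    · linear_combination e0 + b * hΔ + σ * ha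
  have hWz : ∀ z ∈ perp β A, W5 (z, 0) = (a • z + b • S z, 0) := by
    intro z hz
    have hu : z + t₁ • s₁ • S z + -σ • (s₁ • S z + s₂ • S (z + t₁ • s₁ • S z)) = a • z + b • S z := by
      have h1 : s₁ • S z + s₂ • S (z + t₁ • s₁ • S z) = S (a • z + b • S z) := by
        simp only [map_add, map_smul, smul_add, smul_smul, ← e1, ← e2, add_smul]
        abel_nf
      rw [h1, smul_smul, e3, neg_smul, ← hax z hz]
      abel
    simp only [W5, LinearMap.comp_apply, lo_apply, up_apply, zero_add, hu]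
    refine Prod.ext rfl ?_
    simp only [map_add, map_smul, smul_add, smul_smul, neg_mul, one_mul, ← e1, ← e2]
    match_scalars <;> ring
  obtain ⟨hiso, -⟩ := hW.key hM hsc hnd hA hφ (fun z hz => by rw [hWz z hz])
  intro z hz
  have hmem : ∀ y ∈ perp β A, a • y + b • S y ∈ perp β A := fun y hy =>
    Submodule.add_mem _ (Submodule.smul_mem _ _ hy) (Submodule.smul_mem _ _ (hSz y hy))
  set u := a • z + b • S z with hu
  have hsq : a • u + b • S u = z := by
    have h0 : a • u + b • S u - z ∈ perp β A := Submodule.sub_mem _ (hmem u (hmem z hz)) hz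
    refine sub_eq_zero.1 (hM.sym.nd_perp hnd _ h0 fun y hy => ?_)
    have h1 := hiso z hz y hy
    rw [hWz z hz, hWz y hy, ← hu] at h1
    simp only [map_sub, map_add, map_smul, LinearMap.sub_apply, LinearMap.add_apply, LinearMap.smul_apply,
      smul_eq_mul, hSa u (hmem z hz) y hy] at h1 ⊢
    linear_combination h1
  have h2 := hax u (hmem z hz)
  rw [hsq] at h2
  have h3 := hax z hz
  rw [← hu] at h3
  -- square of the identity
  have h4 : z + σ • S z + σ • (S z + σ • S (S z)) = z + τ • S z + τ • (S z + τ • S (S z)) := by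
    have e5 : (z + σ • S z) + σ • S (z + σ • S z) = (u + τ • S u) + σ • S (u + τ • S u) := by rw [h2]
    have e6 : (u + σ • S u) + τ • S (u + σ • S u) = (z + τ • S z) + τ • S (z + τ • S z) := by rw [h3]
    simp only [map_add, map_smul] at e5 e6
    rw [e5, ← e6]
    simp only [smul_add, smul_smul]
    rw [mul_comm σ τ]
    abel
  have h5 : (σ - τ) • ((2 : F) • S z + (σ + τ) • S (S z)) = 0 := by
    linear_combination (norm := module) h4
  exact (smul_eq_zero.1 h5).resolve_left (sub_ne_zero.2 hne)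

/-- Vectors of a space of dimension at most two satisfy a quadratic relation. -/
lemma exists_relation (hM : Hyp β M) (hdim : finrank F (perp β A) ≤ 2)
    (hSz : ∀ z ∈ perp β A, S z ∈ perp β A) :
    (∃ c : F, ∀ z ∈ perp β A, S z = c • z) ∨
      ∃ (p r : F) (v : W), v ∈ perp β A ∧ (∀ c : F, S v ≠ c • v) ∧ ∀ z ∈ perp β A, S (S z) = p • S z + r • z := by
  by_cases hv : ∃ v ∈ perp β A, ∀ c : F, S v ≠ c • v
  · right
    obtain ⟨v, hv, hvc⟩ := hv
    have hli : LinearIndependent F ![v, S v] := by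
      refine linearIndependent_fin2.2 ⟨fun h => hvc 0 (by simpa using h), fun c h => ?_⟩
      simp at h
      rcases eq_or_ne c 0 with rfl | hc
      · rw [zero_smul] at h
        exact hvc 0 (by rw [← h]; simp)
      · exact hvc c⁻¹ (by conv_rhs => rw [← h, smul_smul, inv_mul_cancel₀ hc, one_smul])
    have hr : Set.range ![v, S v] = {v, S v} := by ext z; simp [Fin.exists_fin_two, eq_comm, or_comm]
    have hle : Submodule.span F {v, S v} ≤ perp β A := Submodule.span_le.2 (by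
      rintro z (rfl | rfl); exacts [hv, hSz v hv])
    have heq : Submodule.span F {v, S v} = perp β A := Submodule.eq_of_le_of_finrank_le hle (by
      have h1 := (finrank_span_eq_card hli).symm
      rw [Fintype.card_fin, hr] at h1
      omega)
    obtain ⟨r, p, hpr⟩ := Submodule.mem_span_pair.1 (heq ▸ hSz _ (hSz v hv) : S (S v) ∈ Submodule.span F {v, S v})
    refine ⟨p, r, v, hv, hvc, fun z hz => ?_⟩
    rw [← heq] at hz
    obtain ⟨s, t, rfl⟩ := Submodule.mem_span_pair.1 hz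
    simp only [map_add, map_smul]
    rw [← hpr, map_add, map_smul, map_smul, ← hpr]
    module
  · left
    push Not at hv
    by_cases h0 : ∃ v ∈ perp β A, v ≠ 0
    · obtain ⟨v, hv0, hvne⟩ := h0
      obtain ⟨c, hc⟩ := hv v hv0
      refine ⟨c, fun z hz => ?_⟩
      obtain ⟨d, hd⟩ := hv z hz
      obtain ⟨e, he⟩ := hv (v + z) (Submodule.add_mem _ hv0 hz)
      rw [map_add, hc, hd] at he
      by_cases hde : d = c
      · rw [hd, hde]
      · have h1 : (c - e) • v + (d - e) • z = 0 := by linear_combination (norm := module) he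
        by_cases hde' : d = e
        · rw [hde', sub_self, zero_smul, add_zero, smul_eq_zero] at h1
          exact absurd (hde'.trans (sub_eq_zero.1 (h1.resolve_right hvne)).symm) hde
        · obtain ⟨s, rfl⟩ : ∃ s : F, z = s • v := by
            refine ⟨-((d - e)⁻¹ * (c - e)), ?_⟩
            have h3 : z = (d - e)⁻¹ • ((d - e) • z) := by rw [inv_smul_smul₀ (sub_ne_zero.2 hde')]
            rw [h3, eq_neg_of_add_eq_zero_right h1]
            module
          rw [map_smul, hc, smul_comm]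
    · push Not at h0
      exact ⟨0, fun z hz => by simp [h0 z hz]⟩

/-- For at least five field elements there is no such image. -/
theorem false_of_five (hM : Hyp β M) (hsc : OnlyScalar M) (hnd : ND β A) (hA : A ≠ ⊥)
    (hφ : ∀ y ∈ perp β A, φ y ∈ perp β A) {δ : F}
    (hEl : ∀ s, El β M A φ (lo S s) (s * δ)) (hSz : ∀ z ∈ perp β A, S z ∈ perp β A)
    (hSa : ∀ z ∈ perp β A, ∀ z' ∈ perp β A, β (S z) z' = β z (S z'))
    (hS : ∃ z ∈ perp β A, S z ≠ 0) (hdim : finrank F (perp β A) ≤ 2) (hq : 5 ≤ Nat.card F) : False := by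
  classical
  have : Fintype F := Fintype.ofFinite F
  rw [Nat.card_eq_fintype_card] at hq
  obtain ⟨z₀, hz₀, hSz₀⟩ := hS
  have pick : ∀ (T : Finset F), T.card < Fintype.card F → ∃ x : F, x ∉ T := fun T hT => by
    by_contra! hall
    have := Finset.card_le_card (fun x (_ : x ∈ Finset.univ) => hall x)
    rw [Finset.card_univ] at this
    omega
  have sum_zero : ∀ p r σ τ : F, (∀ z ∈ perp β A, S (S z) = p • S z + r • z) → σ ≠ 0 → τ ≠ 0 → σ ≠ τ →
      1 + σ * p - σ ^ 2 * r ≠ 0 → 1 + τ * p - τ ^ 2 * r ≠ 0 →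
      ∀ z ∈ perp β A, (2 : F) • S z + (σ + τ) • S (S z) = 0 :=
    fun p r σ τ h => word hM hsc hnd hA hφ hEl hSz hSa h
  by_cases hκ : ∃ κ : F, ∀ z ∈ perp β A, S (S z) = κ • S z
  · obtain ⟨κ, hκ⟩ := hκ
    have hrel : ∀ z ∈ perp β A, S (S z) = κ • S z + (0 : F) • z := fun z hz => by simp [hκ z hz]
    obtain ⟨σ, hσ⟩ := pick {0, -κ⁻¹} ((Finset.card_le_two).trans_lt (by omega))
    obtain ⟨τ, hτ⟩ := pick {0, -κ⁻¹, σ} ((Finset.card_le_three).trans_lt (by omega))
    obtain ⟨ρ, hρ⟩ := pick {0, -κ⁻¹, σ, τ} ((Finset.card_le_four).trans_lt (by omega))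
    simp only [Finset.mem_insert, Finset.mem_singleton, not_or] at hσ hτ hρ
    have hΔ : ∀ x : F, x ≠ -κ⁻¹ → 1 + x * κ - x ^ 2 * (0 : F) ≠ 0 := fun x hx h0 => by
      rw [mul_zero, sub_zero] at h0
      have hκ0 : κ ≠ 0 := fun h => by rw [h, mul_zero, add_zero] at h0; exact one_ne_zero h0
      exact hx (by field_simp; linear_combination h0)
    have h1 := sum_zero κ 0 σ τ hrel hσ.1 hτ.1 (Ne.symm hτ.2.2) (hΔ _ hσ.2) (hΔ _ hτ.2.1) z₀ hz₀
    have h2 := sum_zero κ 0 σ ρ hrel hσ.1 hρ.1 (Ne.symm hρ.2.2.1) (hΔ _ hσ.2) (hΔ _ hρ.2.1) z₀ hz₀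
    rw [hκ z₀ hz₀] at h1 h2
    have h3 : ((τ - ρ) * κ) • S z₀ = 0 := by linear_combination (norm := module) h1 - h2
    have h4 : (τ - ρ) * κ = 0 := (smul_eq_zero.1 h3).resolve_right hSz₀
    rw [(mul_eq_zero.1 h4).resolve_left (sub_ne_zero.2 (Ne.symm hρ.2.2.2))] at h1
    rw [zero_smul, smul_zero, add_zero] at h1
    exact hSz₀ ((smul_eq_zero.1 h1).resolve_left hM.two_ne)
  · rcases exists_relation hM hdim hSz with ⟨c, hc⟩ | ⟨p, r, v, -, -, hrel⟩
    · exact hκ ⟨c, fun z hz => by rw [hc z hz, map_smul, hc z hz]⟩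
    obtain ⟨x, y, hbad⟩ : ∃ x y : F, ∀ s : F, 1 + s * p - s ^ 2 * r = 0 → s = x ∨ s = y := by
      by_cases hx : ∃ x : F, 1 + x * p - x ^ 2 * r = 0
      · obtain ⟨x, hx⟩ := hx
        by_cases hy : ∃ y : F, y ≠ x ∧ 1 + y * p - y ^ 2 * r = 0
        · obtain ⟨y, hyx, hy⟩ := hy
          refine ⟨x, y, fun s hs => ?_⟩
          by_contra! hsxy
          have a1 : (x - y) * (p - r * (x + y)) = 0 := by linear_combination hx - hy
          have a2 : (x - s) * (p - r * (x + s)) = 0 := by linear_combination hx - hs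
          have b1 := (mul_eq_zero.1 a1).resolve_left (sub_ne_zero.2 (Ne.symm hyx))
          have b2 := (mul_eq_zero.1 a2).resolve_left (sub_ne_zero.2 (Ne.symm hsxy.1))
          have b3 : r * (s - y) = 0 := by linear_combination b1 - b2
          have hr := (mul_eq_zero.1 b3).resolve_right (sub_ne_zero.2 hsxy.2)
          rw [hr, zero_mul, sub_zero] at b1
          rw [hr, b1, mul_zero, mul_zero, add_zero, sub_zero] at hx
          exact one_ne_zero hx
        · push Not at hy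
          exact ⟨x, x, fun s hs => Or.inl (by by_contra h; exact hy s h hs)⟩
      · push Not at hx
        exact ⟨0, 0, fun s hs => absurd hs (hx s)⟩
    obtain ⟨σ, hσ⟩ := pick {0, x, y} ((Finset.card_le_three).trans_lt (by omega))
    obtain ⟨τ, hτ⟩ := pick {0, x, y, σ} ((Finset.card_le_four).trans_lt (by omega))
    simp only [Finset.mem_insert, Finset.mem_singleton, not_or] at hσ hτ
    have h1 := sum_zero p r σ τ hrel hσ.1 hτ.1 (Ne.symm hτ.2.2.2)
      (fun h => (hbad σ h).elim hσ.2.1 hσ.2.2) (fun h => (hbad τ h).elim hτ.2.1 hτ.2.2.1)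
    by_cases hsum : σ + τ = 0
    · have h2 := h1 z₀ hz₀
      rw [hsum, zero_smul, add_zero] at h2
      exact hSz₀ ((smul_eq_zero.1 h2).resolve_left hM.two_ne)
    · refine hκ ⟨-2 / (σ + τ), fun z hz => ?_⟩
      have h2 := h1 z hz
      rw [div_eq_inv_mul, mul_smul, eq_inv_smul_iff₀ hsum]
      linear_combination (norm := module) h2

end CfsgLib.SpO90
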