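import Cfsg.Agent.SpO90.Frame

/-!
A group containing the isometries of both factors consists of Kronecker products or has every vector as
the centre of a root group.
-/

set_option autoImplicit false
set_option linter.unusedSectionVars false

namespace CfsgLib.SpO90

open Module

variable {F : Type*} [Field F] [Finite F] {W : Type*} [AddCommGroup W] [Module F W] [FiniteDimensional F W]
variable {β : LinearMap.BilinForm F W} {M : Subgroup ((W × W) ≃ₗ[F] (W × W))}

/-- One step of the descent. -/
lemma fixes_of_succ (hM : Hyp β M) (hq : 5 ≤ Nat.card F) (hsc : OnlyScalar M) {n : ℕ} (hn : 1 ≤ n) (hF : Fixes M (n + 1)) :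
    Fixes M n := by
  intro k hk hle
  by_contra hne
  have hmk : meet k = n := by
    by_contra hc
    exact hne (hF k hk (by omega))
  have hF' : Fixes M (meet k + 1) := by rw [hmk]; exact hF
  have hnd := nd_proj hM hsc hk hne hF'
  have hpk : finrank F (proj k) = meet k := finrank_proj
  have hperp := hM.sym.finrank_perp (proj k)
  have hsmall : finrank F W < meet k + 3 := by
    by_contra hc
    exact hne (eq_base_of_small hM hsc hk hF' (by omega) (by omega))
  have hA : proj k ≠ ⊥ := fun h0 => by
    rw [h0, finrank_bot] at hpk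
    omega
  have hdim : finrank F (perp β (proj k)) ≤ 2 := by omega
  have hlow := hM.low
  have hhigh := hM.high
  obtain ⟨i, hi⟩ := hM.odd
  obtain ⟨φ, hφ⟩ := exists_graph hM hk hnd
  have hsz : 3 ≤ finrank F (proj k) ∨ 5 ≤ Nat.card F := Or.inr hq
  obtain ⟨S, δ, hSz, hSa, hS, hEl⟩ := exists_el_lo hM hsc hk hne hnd hsz hφ
  exact false_of_five hM hsc hnd hA (fun y hy => (hφ y hy).1) hEl hSz hSa hS hdim hq

/-- Every image meeting the member is the member. -/
theorem fixes_one (hM : Hyp β M) (hq : 5 ≤ Nat.card F) (hsc : OnlyScalar M) : Fixes M 1 := by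
  have : ∀ j, Fixes M (max 1 (finrank F W - j)) := fun j => by
    induction j with
    | zero => exact fixes_top _ (by omega)
    | succ j ih =>
      by_cases h : finrank F W - j ≤ 1
      · rwa [show max 1 (finrank F W - (j + 1)) = max 1 (finrank F W - j) by omega]
      · refine fixes_of_succ hM hq hsc (le_max_left _ _) ?_
        rwa [show max 1 (finrank F W - (j + 1)) + 1 = max 1 (finrank F W - j) by omega]
  have h := this (finrank F W)
  rwa [show max 1 (finrank F W - finrank F W) = 1 by omega] at h

/-- The dichotomy. -/
theorem tens_or_cen (hM : Hyp β M) (hq : 5 ≤ Nat.card F) : (∀ g ∈ M, Tens β g) ∨ ∀ v, Cen β M v := by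
  by_cases h : OnlyScalar M
  · exact Or.inl fun g hg => tens_of_fixes_one hM h (fixes_one hM hq h) hg
  · exact Or.inr (cen_all_of_not_onlyScalar hM h)

end CfsgLib.SpO90
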